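import Groth.Agent.LocPres.Ops
import Groth.Agent.PullFlat.Flat
import Groth.Agent.ModAlg.FreeElem
import Mathlib.Topology.Sheaves.Points
import Mathlib.CategoryTheory.Adjunction.FullyFaithful
import Mathlib.CategoryTheory.Abelian.Exact

/-!
# Pushforward along a closed embedding of ringed spaces with surjective comorphism
-/

set_option autoImplicit false
set_option linter.style.haveILetI false
set_option linter.dupNamespace false

universe u

open CategoryTheory CategoryTheory.Limits Opposite ModSite TopologicalSpace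

attribute [local instance] Classical.propDecidable

namespace Groth.Agent.ClosedPush

open Groth.Agent.ModFlat (rs map_val_smul map_val_comp map_ring_comp)
open Groth.Agent.PullFlat
open Groth.Agent.LocPres (LocGen isFiniteType_of_cover exists_cover_locGen)

section Points

variable {X : TopCat.{u}} {O : Sheaf (Opens.grothendieckTopology X) CommRingCat.{u}}

/-- Covers from neighbourhoods of all points. -/
theorem exists_cover_of_points {U : Opens X} (P : ∀ ⦃V : Opens X⦄, (V ⟶ U) → Prop)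
    (down : ∀ ⦃V W : Opens X⦄ (g : V ⟶ U) (k : W ⟶ V), P g → P (k ≫ g))
    (h : ∀ p ∈ U, ∃ (V : Opens X) (g : V ⟶ U), p ∈ V ∧ P g) :
    ∃ S ∈ Opens.grothendieckTopology X U, ∀ ⦃V : Opens X⦄ (g : V ⟶ U), S g → P g :=
  ⟨{ arrows := fun V g => P g, downward_closed := fun {_ _ g} hg k => down g k hg },
    fun p hp => by
      obtain ⟨V, g, hp', hg⟩ := h p hp
      exact ⟨V, g, hg, hp'⟩,
    fun _ _ hg => hg⟩

theorem eq_zero_of_points (F : Mod O) {U : Opens X} (x : sect F U)
    (h : ∀ p ∈ U, ∃ (V : Opens X) (g : V ⟶ U), p ∈ V ∧ rs F g x = 0) : x = 0 := by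
  obtain ⟨S, hS, hS'⟩ := exists_cover_of_points (fun V g => rs F g x = 0)
    (fun V W g k hg => by rw [map_val_comp, hg, map_zero]) h
  exact eq_zero_of_locally F hS x hS'

theorem eq_zero_of_empty (F : Mod O) {U : Opens X} (x : sect F U) (h : ∀ p, p ∉ U) : x = 0 :=
  eq_zero_of_points F x fun p hp => (h p hp).elim

theorem epi_of_points {F G : Mod O} (φ : F ⟶ G)
    (h : ∀ (U : Opens X) (x : sect G U), ∀ p ∈ U, ∃ (V : Opens X) (g : V ⟶ U), p ∈ V ∧
      ∃ y : sect F V, appS φ V y = rs G g x) : Epi φ := by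
  refine Groth.Agent.ModAlg.epi_of_locally (R := ringSh O) _ fun T x => ?_
  exact exists_cover_of_points (fun V g => ∃ y : sect F V, appS φ V y = rs G g x)
    (fun V W g k ⟨y, hy⟩ => ⟨rs F k y, by rw [appS_res, hy, map_val_comp]⟩) (h T.unop x)

end Points

variable {Z X : TopCat.{u}} (i : Z ⟶ X) {O_Z : Sheaf (Opens.grothendieckTopology Z) CommRingCat.{u}}
  {O_X : Sheaf (Opens.grothendieckTopology X) CommRingCat.{u}}
  (c : O_X ⟶ ((Opens.map i).sheafPushforwardContinuous CommRingCat.{u}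
    (Opens.grothendieckTopology X) (Opens.grothendieckTopology Z)).obj O_Z)
  (hi : Topology.IsClosedEmbedding i) (hc : Sheaf.IsLocallySurjective c)

/-- The morphism of ringed sites. -/
noncomputable abbrev mor : RMor O_Z O_X := RMor.ofFlat (Opens.map i) c

/-- The comorphism on sections. -/
noncomputable abbrev shC (U : Opens X) : O_X.obj.obj (op U) →+* O_Z.obj.obj (op ((Opens.map i).obj U)) :=
  sh (mor i c) U

include hi in
/-- Opens of a subspace are traces of opens. -/
theorem exists_eq_preimage (W : Opens Z) : ∃ U : Opens X, (Opens.map i).obj U = W := by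
  obtain ⟨t, ht, hW⟩ := hi.isInducing.isOpen_iff.1 W.isOpen
  exact ⟨⟨t, ht⟩, Opens.ext hW⟩

include hi in
/-- A neighbourhood avoiding the closed subspace. -/
theorem exists_off {U : Opens X} {p : X} (hp : p ∈ U) (hr : p ∉ Set.range i) :
    ∃ (V : Opens X) (_ : V ⟶ U), p ∈ V ∧ ∀ z : Z, z ∉ (Opens.map i).obj V :=
  ⟨U ⊓ ⟨(Set.range i)ᶜ, hi.isClosed_range.isOpen_compl⟩, homOfLE inf_le_left, ⟨hp, hr⟩,
    fun z hz => hz.2 ⟨z, rfl⟩⟩

include hc in
/-- Finitely many functions on the subspace lift near a point. -/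
theorem exists_lifts : ∀ {n : ℕ} {U : Opens X} (r : Fin n → O_Z.obj.obj (op ((Opens.map i).obj U))), ∀ p ∈ U,
    ∃ (V : Opens X) (g : V ⟶ U), p ∈ V ∧ ∀ j, ∃ a : O_X.obj.obj (op V),
      shC i c V a = (O_Z.obj.map ((Opens.map i).map g).op).hom (r j) := by
  intro n
  induction n with
  | zero => exact fun {U} _ p hp => ⟨U, 𝟙 U, hp, fun j => j.elim0⟩
  | succ n ih =>
    intro U r p hp
    haveI : Presheaf.IsLocallySurjective (Opens.grothendieckTopology X) c.hom := hc
    obtain ⟨V₀, g₀, ⟨a₀, ha₀⟩, hp₀⟩ :=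
      Presheaf.imageSieve_mem (Opens.grothendieckTopology X) c.hom (U := op U) (r 0) p hp
    obtain ⟨V, g, hpV, hV⟩ := ih (fun j => (O_Z.obj.map ((Opens.map i).map g₀).op).hom (r j.succ)) p hp₀
    refine ⟨V, g ≫ g₀, hpV, fun j => ?_⟩
    induction j using Fin.cases with
    | zero =>
      refine ⟨(O_X.obj.map g.op).hom a₀, ?_⟩
      rw [show ((Opens.map i).map (g ≫ g₀)) = (Opens.map i).map g ≫ (Opens.map i).map g₀ from rfl, map_ring_comp]
      refine (ConcreteCategory.congr_hom (c.hom.naturality g.op) a₀).trans ?_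
      exact congrArg (O_Z.obj.map ((Opens.map i).map g).op).hom ha₀
    | succ j =>
      obtain ⟨a, ha⟩ := hV j
      exact ⟨a, ha.trans (map_ring_comp _ _ _).symm⟩

theorem push_smul (F : Mod O_Z) {U : Opens X} (a : O_X.obj.obj (op U)) (s : sect F ((Opens.map i).obj U)) :
    (a • (show sect ((mor i c).push.obj F) U from s)) = (show sect ((mor i c).push.obj F) U from shC i c U a • s) :=
  rfl

/-- The kernel of the comorphism annihilates. -/
def Killed (G : Mod O_X) : Prop :=
  ∀ (U : Opens X) (a : O_X.obj.obj (op U)), shC i c U a = 0 → ∀ s : sect G U, a • s = 0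

theorem killed_push (F : Mod O_Z) : Killed i c ((mor i c).push.obj F) := fun U a ha s => by
  show shC i c U a • (show sect F ((Opens.map i).obj U) from s) = 0
  rw [ha, zero_smul]

theorem killed_of_iso {G G' : Mod O_X} (e : G ≅ G') (h : Killed i c G) : Killed i c G' := fun U a ha s => by
  have hs : appS e.hom U (appS e.inv U s) = s :=
    (appS_comp e.inv e.hom s).symm.trans (congrArg (fun t : G' ⟶ G' => appS t U s) e.inv_hom_id)
  rw [← hs, ← map_smul, h U a ha, map_zero]

include hi in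
theorem push_faithful : (mor i c).push.Faithful := by
  refine ⟨fun {F F'} φ ψ h => SheafOfModules.Hom.ext (PresheafOfModules.hom_ext fun W => ?_)⟩
  obtain ⟨U, hU⟩ := exists_eq_preimage i hi W.unop
  obtain rfl : W = op ((Opens.map i).obj U) := by rw [hU]
  exact ModuleCat.hom_ext (LinearMap.ext fun x => congrArg (fun t : (mor i c).push.obj F ⟶ (mor i c).push.obj F' =>
    appS t U x) h)

include hi in
theorem epi_push_map {F F' : Mod O_Z} (φ : F ⟶ F') [Epi φ] : Epi ((mor i c).push.map φ) := by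
  refine epi_of_points _ fun U x p hp => ?_
  by_cases hr : p ∈ Set.range i
  · obtain ⟨z, rfl⟩ := hr
    obtain ⟨S, hS, hS'⟩ := exists_local_lift φ (show sect F' ((Opens.map i).obj U) from x)
    obtain ⟨W, k, hk, hz⟩ := hS z hp
    obtain ⟨y, hy⟩ := hS' k hk
    obtain ⟨U₀, rfl⟩ := exists_eq_preimage i hi W
    let g : U₀ ⊓ U ⟶ U := homOfLE inf_le_right
    let g₀ : U₀ ⊓ U ⟶ U₀ := homOfLE inf_le_left
    refine ⟨U₀ ⊓ U, g, ⟨hz, hp⟩, rs F ((Opens.map i).map g₀) y, ?_⟩
    show appS φ ((Opens.map i).obj (U₀ ⊓ U)) (rs F ((Opens.map i).map g₀) y) = rs F' ((Opens.map i).map g) x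
    refine (appS_res φ _ y).trans ((congrArg _ hy).trans ?_)
    exact (map_val_comp _ _ _).symm.trans (congrArg (fun q => rs F' q x) (Subsingleton.elim _ _))
  · obtain ⟨V, g, hpV, hV⟩ := exists_off i hi hp hr
    exact ⟨V, g, hpV, 0, (map_zero _).trans (eq_zero_of_empty F' (U := (Opens.map i).obj V) _ hV).symm⟩

include hi in
theorem push_preservesFiniteColimits : PreservesFiniteColimits (mor i c).push := by
  haveI : (mor i c).push.PreservesEpimorphisms := ⟨fun φ _ => epi_push_map i c hi φ⟩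
  haveI : PreservesLimitsOfSize.{0, 0} (mor i c).push := (mor i c).adj.rightAdjoint_preservesLimits
  haveI : (mor i c).push.PreservesHomology := Functor.preservesHomology_of_preservesEpis_and_kernels _
  exact Functor.preservesFiniteColimits_of_preservesHomology _

include hi in
/-- A section killed in the inverse image dies near the points of the subspace. -/
theorem rs_eq_zero_of_etaS {G : Mod O_X} (hc : Sheaf.IsLocallySurjective c) (hG : Killed i c G) {U : Opens X}
    (m : sect G U) (hm : etaS (mor i c) G U m = 0) {z : Z} (hz : i z ∈ U) :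
    ∃ (V : Opens X) (g : V ⟶ U), i z ∈ V ∧ rs G g m = 0 := by
  let x₀ : Gen (mor i c) G ((Opens.map i).obj U) := ⟨U, 𝟙 _, m⟩
  have h1 : ∑ j : Fin 1, (fun _ : Fin 1 => (1 : O_Z.obj.obj (op ((Opens.map i).obj U)))) j •
      genVal (mor i c) G ((fun _ : Fin 1 => x₀) j) = 0 := by
    rw [Fin.sum_univ_one, one_smul]
    exact (rs_id _ _ _).trans hm
  obtain ⟨S, hS, hS'⟩ := exists_lnull_of_eq_zero (fun _ : Fin 1 => x₀) (fun _ => 1) h1
  obtain ⟨W, k, hk, hzW⟩ := hS z hz
  obtain ⟨n, L, d, hd, hnull⟩ := hS' k hk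
  obtain ⟨T, hT, hT'⟩ := hnull
  obtain ⟨W', k', hk', hzW'⟩ := hT z hzW
  obtain ⟨V', b, q, y, A, hA, hA'⟩ := hT' k' hk'
  obtain ⟨U₀, rfl⟩ := exists_eq_preimage i hi W'
  let U₁ : Opens X := U₀ ⊓ U ⊓ V'
  let j₀ : U₁ ⟶ U₀ := homOfLE (inf_le_left.trans inf_le_left)
  obtain ⟨U₂, e, hz₂, ha⟩ := exists_lifts i c hc
    (fun l => (O_Z.obj.map ((Opens.map i).map j₀ ≫ k').op).hom (d l)) (i z) (U := U₁) ⟨⟨hzW', hz⟩, b.le hzW'⟩
  choose a ha using ha
  let w : U₂ ⟶ U := e ≫ homOfLE (inf_le_left.trans inf_le_right)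
  let v : U₂ ⟶ V' := e ≫ homOfLE inf_le_right
  let kk : (Opens.map i).obj U₂ ⟶ W := (Opens.map i).map (e ≫ j₀) ≫ k'
  refine ⟨U₂, w, hz₂, ?_⟩
  -- values of generators
  let μ : Gen (mor i c) G W → sect G U₂ := fun x =>
    if h : U₂ ≤ x.1 then rs G (homOfLE h : U₂ ⟶ x.1) x.2.2 else 0
  have hμL : ∀ l, μ (L l) = ∑ j, (O_X.obj.map v.op).hom (A l j) • rs G v (y j) := fun l => by
    obtain ⟨q', -, hq'⟩ := hA l
    have hle : U₂ ≤ (L l).1 := v.le.trans q'.le
    refine (dif_pos hle).trans ?_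
    refine (congrArg (fun t => rs G t (L l).2.2) (Subsingleton.elim (homOfLE hle : U₂ ⟶ (L l).1) (v ≫ q'))).trans ?_
    refine (map_val_comp v q' _).trans ((congrArg (rs G v) hq').trans ?_)
    rw [map_sum]
    exact Finset.sum_congr rfl fun j _ => map_val_smul _ _ _
  have hpl : ∀ l j, shC i c U₂ ((O_X.obj.map v.op).hom (A l j)) =
      (O_Z.obj.map ((Opens.map i).map (e ≫ j₀)).op).hom (pl (mor i c) b (A l j)) := fun l j => by
    rw [pl_res]
    refine (ConcreteCategory.congr_hom (c.hom.naturality v.op) (A l j)).trans ?_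
    exact congrArg (fun t => (O_Z.obj.map t).hom _) (Subsingleton.elim _ _)
  have hsum : ∑ l, a l • μ (L l) = 0 := by
    simp only [hμL, Finset.smul_sum, smul_smul]
    rw [Finset.sum_comm]
    refine Finset.sum_eq_zero fun j _ => ?_
    rw [← Finset.sum_smul]
    refine hG U₂ _ ?_ _
    simp only [map_sum, map_mul, hpl]
    have := congrArg (O_Z.obj.map ((Opens.map i).map (e ≫ j₀)).op).hom (hA' j)
    simp only [map_sum, map_mul, map_zero] at this
    refine Eq.trans (Finset.sum_congr rfl fun l _ => congrArg (· * _) ?_) this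
    refine (ha l).trans ?_
    rw [← map_ring_comp, ← map_ring_comp]
    exact congrArg (fun t => (O_Z.obj.map t).hom _) (Subsingleton.elim _ _)
  -- the two formal combinations have the same value
  let x₁ : Gen (mor i c) G W := x₀.res k
  have hx₁ : μ x₁ = rs G w m := (dif_pos w.le).trans rfl
  let s : Finset (Gen (mor i c) G W) := insert x₁ (Finset.univ.image L)
  have hcoef : ∀ x : Gen (mor i c) G W, (∑ l, if L l = x then d l else 0) = if x₁ = x then 1 else 0 := fun x => by
    have h := congrArg (fun φ => φ x) hd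
    simp only [comb, Finsupp.finsetSum_apply, Finsupp.single_apply, Fin.sum_univ_one, map_one] at h
    exact h
  have hfib : ∑ l, a l • μ (L l) = ∑ x ∈ s, (∑ l, if L l = x then a l else 0) • μ x := by
    rw [← Finset.sum_fiberwise_of_maps_to (t := s) (g := L)
      (fun l _ => Finset.mem_insert_of_mem (Finset.mem_image_of_mem _ (Finset.mem_univ l)))]
    refine Finset.sum_congr rfl fun x _ => ?_
    rw [Finset.sum_smul, Finset.sum_filter]
    refine Finset.sum_congr rfl fun l _ => ?_
    split_ifs with h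
    · rw [h]
    · rw [zero_smul]
  have hdelta : rs G w m = ∑ x ∈ s, (if x₁ = x then (1 : O_X.obj.obj (op U₂)) else 0) • μ x := by
    rw [Finset.sum_eq_single x₁]
    · rw [if_pos rfl, one_smul, hx₁]
    · intro x _ hx; rw [if_neg (Ne.symm hx), zero_smul]
    · exact fun h => (h (Finset.mem_insert_self _ _)).elim
  refine Eq.trans ?_ hsum
  rw [hdelta, hfib, ← sub_eq_zero, ← Finset.sum_sub_distrib]
  refine Finset.sum_eq_zero fun x _ => ?_
  rw [← sub_smul]
  refine hG U₂ _ ?_ _
  have h := congrArg (O_Z.obj.map kk.op).hom (hcoef x)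
  rw [map_sum] at h
  simp only [apply_ite (O_Z.obj.map kk.op).hom, map_zero, map_one] at h
  rw [map_sub, map_sum, sub_eq_zero]
  simp only [apply_ite (shC i c U₂), map_zero, map_one]
  refine h.symm.trans (Finset.sum_congr rfl fun l _ => ?_)
  split_ifs with hl
  · refine Eq.trans ?_ (ha l).symm
    rw [← map_ring_comp]
    exact congrArg (fun t => (O_Z.obj.map t).hom _) (Subsingleton.elim _ _)
  · rfl

include hi hc in
/-- The unit is an isomorphism on modules killed by the ideal. -/
theorem isIso_unit (G : Mod O_X) (hG : Killed i c G) : IsIso ((mor i c).adj.unit.app G) := by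
  let η := (mor i c).adj.unit.app G
  haveI : Mono η := mono_of_appS_injective η fun U m hm => by
    refine eq_zero_of_points G m fun p hp => ?_
    by_cases hr : p ∈ Set.range i
    · obtain ⟨z, rfl⟩ := hr
      exact rs_eq_zero_of_etaS i c hi hc hG m hm hp
    · obtain ⟨V, g, hpV, hV⟩ := exists_off i hi hp hr
      refine ⟨V, g, hpV, ?_⟩
      rw [← one_smul (O_X.obj.obj (op V)) (rs G g m)]
      refine hG V 1 ?_ _
      let v : sect (ModSite.unit O_Z) ((Opens.map i).obj V) := shC i c V 1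
      exact eq_zero_of_empty (ModSite.unit O_Z) v hV
  haveI : Epi η := by
    refine epi_of_points η fun U x p hp => ?_
    by_cases hr : p ∈ Set.range i
    · obtain ⟨z, rfl⟩ := hr
      let x' : sect ((mor i c).pull.obj G) ((Opens.map i).obj U) := x
      obtain ⟨S, hS, hS'⟩ := exists_common_repr (fun _ : Fin 1 => x')
      obtain ⟨W, k, hk, hzW⟩ := hS z hp
      obtain ⟨V', b, q, m, d, hd⟩ := hS' k hk
      obtain ⟨U₀, rfl⟩ := exists_eq_preimage i hi W
      let U₁ : Opens X := U₀ ⊓ U ⊓ V'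
      let j₀ : U₁ ⟶ U₀ := homOfLE (inf_le_left.trans inf_le_left)
      obtain ⟨U₂, e, hz₂, ha⟩ := exists_lifts i c hc
        (fun l => (O_Z.obj.map ((Opens.map i).map j₀).op).hom (d 0 l)) (i z) (U := U₁) ⟨⟨hzW, hp⟩, b.le hzW⟩
      choose a ha using ha
      let w : U₂ ⟶ U := e ≫ homOfLE (inf_le_left.trans inf_le_right)
      let v : U₂ ⟶ V' := e ≫ homOfLE inf_le_right
      refine ⟨U₂, w, hz₂, ∑ l, a l • rs G v (m l), ?_⟩
      refine (map_sum (appS η U₂) _ _).trans ?_
      have hx : rs _ ((Opens.map i).map w) x' = ∑ l,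
          (O_Z.obj.map ((Opens.map i).map (e ≫ j₀)).op).hom (d 0 l) •
            rs _ ((Opens.map i).map (e ≫ j₀)) (genVal (mor i c) G ⟨V', b, m l⟩) := by
        refine Eq.trans ?_ ((congrArg (rs _ ((Opens.map i).map (e ≫ j₀))) (hd 0)).trans
          ((map_sum (rs _ _) _ _).trans (Finset.sum_congr rfl fun l _ => map_val_smul _ _ _)))
        rw [← map_val_comp]
        exact congrArg (fun t => rs _ t x') (Subsingleton.elim _ _)
      refine Eq.trans (Finset.sum_congr rfl fun l _ => ?_) hx.symm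
      refine (map_smul (appS η U₂) _ _).trans ?_
      refine congrArg₂ (fun (r : O_Z.obj.obj (op ((Opens.map i).obj U₂)))
        (t : sect ((mor i c).pull.obj G) ((Opens.map i).obj U₂)) => r • t) ?_ ?_
      · refine (ha l).trans ?_
        rw [← map_ring_comp]
        exact congrArg (fun t => (O_Z.obj.map t).hom _) (Subsingleton.elim _ _)
      · show etaS (mor i c) G U₂ (rs G v (m l)) = _
        rw [etaS_map, genVal, ← map_val_comp]
        exact congrArg (fun t => rs _ t (etaS (mor i c) G V' (m l))) (Subsingleton.elim _ _)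
    · obtain ⟨V, g, hpV, hV⟩ := exists_off i hi hp hr
      exact ⟨V, g, hpV, 0, (map_zero _).trans
        (eq_zero_of_empty ((mor i c).pull.obj G) (U := (Opens.map i).obj V) _ hV).symm⟩
  exact isIso_of_mono_of_epi η

include hi hc in
theorem essImage_iff (G : Mod O_X) : (mor i c).push.essImage G ↔ Killed i c G := by
  refine ⟨fun ⟨F, ⟨e⟩⟩ => killed_of_iso i c e (killed_push i c F), fun h => ?_⟩
  haveI := isIso_unit i c hi hc G h
  exact ⟨(mor i c).pull.obj G, ⟨(asIso ((mor i c).adj.unit.app G)).symm⟩⟩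

include hi hc in
theorem push_full : (mor i c).push.Full := by
  haveI := push_faithful i c hi
  haveI : ∀ F, IsIso ((mor i c).adj.counit.app F) := fun F => by
    haveI := isIso_unit i c hi hc _ (killed_push i c F)
    haveI : IsIso ((mor i c).push.map ((mor i c).adj.counit.app F)) := by
      have h := (mor i c).adj.right_triangle_components F
      exact IsIso.of_isIso_fac_left h
    exact isIso_of_reflects_iso ((mor i c).adj.counit.app F) (mor i c).push
  haveI : IsIso (mor i c).adj.counit := NatIso.isIso_of_isIso_app _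
  exact (mor i c).adj.fullyFaithfulROfIsIsoCounit.full

include hi hc in
theorem isFiniteType_push (F : Mod O_Z) [SheafOfModules.IsFiniteType (R := ringSh O_Z) F] :
    SheafOfModules.IsFiniteType (R := ringSh O_X) ((mor i c).push.obj F) := by
  refine isFiniteType_of_cover fun U => ?_
  refine exists_cover_of_points (fun V _ => Nonempty (LocGen ((mor i c).push.obj F) V))
    (fun V W g k ⟨G⟩ => ⟨G.restrict k⟩) fun p hp => ?_
  by_cases hr : p ∈ Set.range i
  · obtain ⟨z, rfl⟩ := hr
    obtain ⟨S, hS, hS'⟩ := exists_cover_locGen F ((Opens.map i).obj U)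
    obtain ⟨W, k, hk, hzW⟩ := hS z hp
    obtain ⟨G₀⟩ := hS' k hk
    obtain ⟨U₀, rfl⟩ := exists_eq_preimage i hi W
    let G := G₀.restrict ((Opens.map i).map (homOfLE inf_le_left : U₀ ⊓ U ⟶ U₀))
    refine ⟨U₀ ⊓ U, homOfLE inf_le_right, ⟨hzW, hp⟩,
      ⟨⟨G.n, fun j => (show sect ((mor i c).push.obj F) (U₀ ⊓ U) from G.s j), fun {T} a x => ?_⟩⟩⟩
    refine exists_cover_of_points (fun V g => ∃ d : Fin G.n → O_X.obj.obj (op V),
      ∑ j, d j • rs ((mor i c).push.obj F) (g ≫ a) (show sect ((mor i c).push.obj F) (U₀ ⊓ U) from G.s j) =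
        rs ((mor i c).push.obj F) g x) (fun V W' g k' ⟨d, hd⟩ => ?_) fun p' hp' => ?_
    · refine ⟨fun j => (O_X.obj.map k'.op).hom (d j), ?_⟩
      refine Eq.trans ?_ ((congrArg (rs _ k') hd).trans (map_val_comp _ _ _).symm)
      rw [map_sum]
      exact Finset.sum_congr rfl fun j _ => by rw [map_val_smul, ← map_val_comp, Category.assoc]
    · by_cases hr' : p' ∈ Set.range i
      · obtain ⟨z', rfl⟩ := hr'
        obtain ⟨S₁, hS₁, hS₁'⟩ := G.gen ((Opens.map i).map a) (show sect F ((Opens.map i).obj T) from x)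
        obtain ⟨W₁, k₁, hk₁, hzW₁⟩ := hS₁ z' hp'
        obtain ⟨d, hd⟩ := hS₁' k₁ hk₁
        obtain ⟨U₁, rfl⟩ := exists_eq_preimage i hi W₁
        let g₁ : U₁ ⊓ T ⟶ U₁ := homOfLE inf_le_left
        obtain ⟨U₂, e, hz₂, ha⟩ := exists_lifts i c hc
          (fun l => (O_Z.obj.map ((Opens.map i).map g₁).op).hom (d l)) (i z') (U := U₁ ⊓ T) ⟨hzW₁, hp'⟩
        choose d' hd' using ha
        refine ⟨U₂, e ≫ homOfLE inf_le_right, hz₂, d', ?_⟩
        refine Eq.trans (Finset.sum_congr rfl fun j _ => ?_)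
          (((congrArg (rs F ((Opens.map i).map (e ≫ g₁))) hd).symm.trans (map_sum (rs F _) _ _)).symm.trans ?_)
        · refine Eq.trans ?_ (map_val_smul (O := O_Z) (F := F) _ _ _).symm
          refine congrArg₂ (fun (r : O_Z.obj.obj (op ((Opens.map i).obj U₂)))
            (t : sect F ((Opens.map i).obj U₂)) => r • t) ?_ ?_
          · refine (hd' j).trans ?_
            rw [← map_ring_comp]
            exact congrArg (fun t => (O_Z.obj.map t).hom _) (Subsingleton.elim _ _)
          · refine Eq.trans ?_ (map_val_comp _ _ _)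
            exact congrArg (fun t => rs F t (G.s j)) (Subsingleton.elim _ _)
        · refine (map_val_comp _ _ _).symm.trans ?_
          exact congrArg (fun t => rs F t x) (Subsingleton.elim _ _)
      · obtain ⟨V, g, hpV, hV⟩ := exists_off i hi hp' hr'
        exact ⟨V, g, hpV, 0, (eq_zero_of_empty F (U := (Opens.map i).obj V) _ hV).trans
          (eq_zero_of_empty F (U := (Opens.map i).obj V) _ hV).symm⟩
  · obtain ⟨V, g, hpV, hV⟩ := exists_off i hi hp hr
    refine ⟨V, g, hpV, ⟨⟨0, Fin.elim0, fun {T} a x => ⟨⊤, GrothendieckTopology.top_mem _ T, fun W g' _ => ⟨Fin.elim0, ?_⟩⟩⟩⟩⟩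
    rw [Fin.sum_univ_zero]
    exact (eq_zero_of_empty F (U := (Opens.map i).obj W) _ fun z hz => hV z ((g' ≫ a).le hz)).symm

include hi in
theorem isFiniteType_of_push (F : Mod O_Z)
    [SheafOfModules.IsFiniteType (R := ringSh O_X) ((mor i c).push.obj F)] :
    SheafOfModules.IsFiniteType (R := ringSh O_Z) F := by
  refine isFiniteType_of_cover fun W₀ => ?_
  refine exists_cover_of_points (fun V _ => Nonempty (LocGen F V)) (fun V W g k ⟨G⟩ => ⟨G.restrict k⟩) fun z hz => ?_
  obtain ⟨U₀, rfl⟩ := exists_eq_preimage i hi W₀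
  obtain ⟨S, hS, hS'⟩ := exists_cover_locGen ((mor i c).push.obj F) U₀
  obtain ⟨V, k, hk, hzV⟩ := hS (i z) hz
  obtain ⟨G⟩ := hS' k hk
  refine ⟨(Opens.map i).obj V, (Opens.map i).map k, hzV,
    ⟨⟨G.n, fun j => (show sect F ((Opens.map i).obj V) from G.s j), fun {T} a x => ?_⟩⟩⟩
  refine exists_cover_of_points (fun W g => ∃ d : Fin G.n → O_Z.obj.obj (op W),
      ∑ j, d j • rs F (g ≫ a) (show sect F ((Opens.map i).obj V) from G.s j) = rs F g x)
    (fun W W' g k' ⟨d, hd⟩ => ?_) fun z' hz' => ?_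
  · refine ⟨fun j => (O_Z.obj.map k'.op).hom (d j), ?_⟩
    refine Eq.trans ?_ ((congrArg (rs _ k') hd).trans (map_val_comp _ _ _).symm)
    rw [map_sum]
    exact Finset.sum_congr rfl fun j _ => by rw [map_val_smul, ← map_val_comp, Category.assoc]
  · obtain ⟨T₀, rfl⟩ := exists_eq_preimage i hi T
    let g₁ : T₀ ⊓ V ⟶ T₀ := homOfLE inf_le_left
    let x₁ : sect ((mor i c).push.obj F) (T₀ ⊓ V) := rs F ((Opens.map i).map g₁) x
    obtain ⟨S₁, hS₁, hS₁'⟩ := G.gen (homOfLE inf_le_right : T₀ ⊓ V ⟶ V) x₁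
    obtain ⟨V', k₁, hk₁, hzV'⟩ := hS₁ (i z') ⟨hz', a.le hz'⟩
    obtain ⟨d, hd⟩ := hS₁' k₁ hk₁
    refine ⟨(Opens.map i).obj V', (Opens.map i).map (k₁ ≫ g₁), hzV', fun j => shC i c V' (d j), ?_⟩
    refine Eq.trans (Finset.sum_congr rfl fun j _ => ?_) (hd.trans ?_)
    · exact congrArg (fun t => shC i c V' (d j) • rs F t (show sect F ((Opens.map i).obj V) from G.s j))
        (Subsingleton.elim _ _)
    · exact (map_val_comp ((Opens.map i).map k₁) ((Opens.map i).map g₁) x).symm

end Groth.Agent.ClosedPush
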